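import Cfsg.Agent.Helper28.HEN.Data

set_option autoImplicit false

namespace Cfsg.Agent.Helper28.HEN

theorem fin_8 : Cfsg.Agent.Helper28.ptChunk (Cfsg.Agent.Helper28.finPt D 8330 lv T ftp ftc) 8330 1024 8 = true := by decide +kernel

end Cfsg.Agent.Helper28.HEN
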